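import Groth.Agent.DRingKFlat.Bounded
import Mathlib.Algebra.Homology.HomotopyCategory.Pretriangulated
import Mathlib.LinearAlgebra.TensorProduct.RightExactness
import Mathlib.RingTheory.Finiteness.Basic
import Mathlib.Algebra.Module.FinitePresentation

/-!
# K-flat complexes over a ring: interface in the monoidal language
-/

universe u

open CategoryTheory Limits MonoidalCategory

namespace Groth.Agent.DRingKFlat

variable {R : Type u} [CommRing R]

theorem isKFl_iff (K : DRing.Cx R) :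
    (∀ L : DRing.Cx R, (∀ i : ℤ, IsZero (L.homology i)) → ∀ i : ℤ, IsZero ((L ⊗ K).homology i)) ↔ IsKFl K :=
  Iff.rfl

theorem isFl_of_termwiseFlat {K : DRing.Cx R} (h : DRing.TermwiseFlat K) (n : ℤ) : IsFl (K.X n) :=
  isFlat_iff_flat.2 (h n)

/-- K-flatness only depends on the homotopy type. -/
theorem isKFlat_of_homotopyEquiv {K L : Cx R} (e : HomotopyEquiv K L) (h : IsKFl K) : IsKFl L := by
  refine isKFlat_iff.2 fun F hF => acyclic_iff_isZero.2 fun i => ?_
  let e' : HomotopyEquiv (tot F K) (tot F L) :=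
    { hom := ((tCx R).obj F).map e.hom
      inv := ((tCx R).obj F).map e.inv
      homotopyHomInvId := (Homotopy.ofEq (((tCx R).obj F).map_comp _ _).symm).trans
        ((HomologicalComplex.mapBifunctorMapHomotopy₂ (𝟙 F) e.homotopyHomInvId (tB R) (.up ℤ)).trans
          (Homotopy.ofEq (((tCx R).obj F).map_id _)))
      homotopyInvHomId := (Homotopy.ofEq (((tCx R).obj F).map_comp _ _).symm).trans
        ((HomologicalComplex.mapBifunctorMapHomotopy₂ (𝟙 F) e.homotopyInvHomId (tB R) (.up ℤ)).trans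
          (Homotopy.ofEq (((tCx R).obj F).map_id _))) }
  exact (acyclic_iff_isZero.1 (isKFlat_iff.1 h F hF) i).of_iso (e'.toHomologyIso i).symm

theorem isKFlat_of_quotient_iso {X Y : HomotopyCategory (Mo R) (ComplexShape.up ℤ)} (e : X ≅ Y)
    (h : IsKFl X.as) : IsKFl Y.as :=
  isKFlat_of_homotopyEquiv (HomotopyCategory.homotopyEquivOfIso e) h

theorem two_of_three (T : Pretriangulated.Triangle (HomotopyCategory (Mo R) (ComplexShape.up ℤ)))
    (hT : T ∈ Pretriangulated.distinguishedTriangles) :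
    (IsKFl T.obj₁.as → IsKFl T.obj₂.as → IsKFl T.obj₃.as) ∧
    (IsKFl T.obj₁.as → IsKFl T.obj₃.as → IsKFl T.obj₂.as) ∧
    (IsKFl T.obj₂.as → IsKFl T.obj₃.as → IsKFl T.obj₁.as) := by
  obtain ⟨P, Q, φ, ⟨e⟩⟩ := hT
  let e₁ := Pretriangulated.Triangle.π₁.mapIso e
  let e₂ := Pretriangulated.Triangle.π₂.mapIso e
  let e₃ := Pretriangulated.Triangle.π₃.mapIso e
  exact ⟨fun h1 h2 => isKFlat_of_quotient_iso e₃.symm
      (isKFlat_cone φ (isKFlat_of_quotient_iso e₁ h1) (isKFlat_of_quotient_iso e₂ h2)),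
    fun h1 h3 => isKFlat_of_quotient_iso e₂.symm
      (isKFlat_tgt_of_cone φ (isKFlat_of_quotient_iso e₁ h1) (isKFlat_of_quotient_iso e₃ h3)),
    fun h2 h3 => isKFlat_of_quotient_iso e₁.symm
      (isKFlat_src_of_cone φ (isKFlat_of_quotient_iso e₂ h2) (isKFlat_of_quotient_iso e₃ h3))⟩

end Groth.Agent.DRingKFlat
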