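import Groth.Agent.DRingKFlat.Tot
import Mathlib.Algebra.Homology.HomotopyCategory.MappingCone
import Mathlib.Algebra.Homology.SingleHomology
import Mathlib.Algebra.Homology.BifunctorShift
import Mathlib.Algebra.Homology.HomotopyCategory.DegreewiseSplit

/-! # K-flat complexes of sheaves of modules: basic closure properties -/

universe u

open CategoryTheory Limits HomologicalComplex

namespace Groth.Agent.DRingKFlat

section General

variable {A : Type*} [Category* A] [Abelian A] {ι : Type*} {c : ComplexShape ι}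

lemma acyclic_iff_isZero {K : HomologicalComplex A c} :
    K.Acyclic ↔ ∀ i, IsZero (K.homology i) :=
  forall_congr' fun i => K.exactAt_iff_isZero_homology i

lemma acyclic_of_iso {K L : HomologicalComplex A c} (e : K ≅ L) (h : K.Acyclic) : L.Acyclic :=
  acyclic_iff_isZero.2 fun i =>
    (acyclic_iff_isZero.1 h i).of_iso ((homologyFunctor A c i).mapIso e).symm

variable {S : ShortComplex (HomologicalComplex A c)}

lemma acyclic₂ (hS : S.ShortExact) (h₁ : S.X₁.Acyclic) (h₃ : S.X₃.Acyclic) : S.X₂.Acyclic :=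
  acyclic_iff_isZero.2 fun i => (hS.homology_exact₂ i).isZero_of_both_zeros
    ((acyclic_iff_isZero.1 h₁ i).eq_of_src _ _) ((acyclic_iff_isZero.1 h₃ i).eq_of_tgt _ _)

lemma acyclic₁ (hc : ∀ j, ∃ i, c.Rel i j) (hS : S.ShortExact) (h₂ : S.X₂.Acyclic)
    (h₃ : S.X₃.Acyclic) : S.X₁.Acyclic :=
  acyclic_iff_isZero.2 fun j => by
    obtain ⟨i, hij⟩ := hc j
    exact (hS.homology_exact₁ i j hij).isZero_of_both_zeros
      ((acyclic_iff_isZero.1 h₃ i).eq_of_src _ _) ((acyclic_iff_isZero.1 h₂ j).eq_of_tgt _ _)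

lemma acyclic₃ (hc : ∀ i, ∃ j, c.Rel i j) (hS : S.ShortExact) (h₁ : S.X₁.Acyclic)
    (h₂ : S.X₂.Acyclic) : S.X₃.Acyclic :=
  acyclic_iff_isZero.2 fun i => by
    obtain ⟨j, hij⟩ := hc i
    exact (hS.homology_exact₃ i j hij).isZero_of_both_zeros
      ((acyclic_iff_isZero.1 h₂ i).eq_of_src _ _) ((acyclic_iff_isZero.1 h₁ j).eq_of_tgt _ _)

/-- A colimit of acyclic complexes over a shape with exact colimits is acyclic. -/
lemma acyclic_of_isColimit {I : Type*} [Category* I] [HasColimitsOfShape I A]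
    [HasExactColimitsOfShape I A] (D : I ⥤ HomologicalComplex A c) (hD : ∀ i, (D.obj i).Acyclic)
    {co : Cocone D} (hco : IsColimit co) : co.pt.Acyclic := by
  intro n
  let S : ShortComplex (I ⥤ A) := ShortComplex.mk
    ({ app := fun i => (D.obj i).d (c.prev n) n
       naturality := fun i j f => (D.map f).comm _ _ } :
      D ⋙ eval A c (c.prev n) ⟶ D ⋙ eval A c n)
    ({ app := fun i => (D.obj i).d n (c.next n)
       naturality := fun i j f => (D.map f).comm _ _ } :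
      D ⋙ eval A c n ⟶ D ⋙ eval A c (c.next n))
    (by ext i; exact (D.obj i).d_comp_d _ _ _)
  have hS : S.Exact := S.exact_iff_isZero_homology.2 (Functor.isZero _ fun i => by
    have hi : (S.map ((evaluation I A).obj i)).Exact := hD i n
    exact ((ShortComplex.exact_iff_isZero_homology _).1 hi).of_iso
      (S.mapHomologyIso ((evaluation I A).obj i)).symm)
  exact colim.exact_mapShortComplex hS
    (c₁ := (eval A c (c.prev n)).mapCocone co) (isColimitOfPreserves _ hco)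
    (c₂ := (eval A c n).mapCocone co) (isColimitOfPreserves _ hco)
    (c₃ := (eval A c (c.next n)).mapCocone co) (isColimitOfPreserves _ hco)
    (co.pt.d (c.prev n) n) (co.pt.d n (c.next n))
    (fun i => (co.ι.app i).comm _ _) (fun i => (co.ι.app i).comm _ _)

end General

variable {R : Type u} [CommRing R]

lemma upRel_prev (j : ℤ) : ∃ i, (ComplexShape.up ℤ).Rel i j := ⟨j - 1, sub_add_cancel j 1⟩

lemma upRel_next (i : ℤ) : ∃ j, (ComplexShape.up ℤ).Rel i j := ⟨i + 1, rfl⟩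

theorem isKFlat_iff {K : Cx R} :
    IsKFl K ↔ ∀ F : Cx R, F.Acyclic → (tot F K).Acyclic := by
  simp only [acyclic_iff_isZero]

theorem isKFlat_of_iso {K L : Cx R} (e : K ≅ L) (h : IsKFl K) : IsKFl L :=
  isKFlat_iff.2 fun F hF =>
    acyclic_of_iso (((tCx R).obj F).mapIso e) (isKFlat_iff.1 h F hF)

section TwoOfThree

variable {S : ShortComplex (Cx R)}

theorem isKFlat₂ (hS : S.ShortExact)
    (hm : ∀ (G : Mo R) (q : ℤ), Mono (((tB R).obj G).map (S.f.f q)))
    (h₁ : IsKFl S.X₁) (h₃ : IsKFl S.X₃) : IsKFl S.X₂ :=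
  isKFlat_iff.2 fun F hF => acyclic₂ (shortExact_tot_obj F hS fun _ q => hm _ q)
    (isKFlat_iff.1 h₁ F hF) (isKFlat_iff.1 h₃ F hF)

theorem isKFlat₁ (hS : S.ShortExact)
    (hm : ∀ (G : Mo R) (q : ℤ), Mono (((tB R).obj G).map (S.f.f q)))
    (h₂ : IsKFl S.X₂) (h₃ : IsKFl S.X₃) : IsKFl S.X₁ :=
  isKFlat_iff.2 fun F hF => acyclic₁ upRel_prev (shortExact_tot_obj F hS fun _ q => hm _ q)
    (isKFlat_iff.1 h₂ F hF) (isKFlat_iff.1 h₃ F hF)

theorem isKFlat₃ (hS : S.ShortExact)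
    (hm : ∀ (G : Mo R) (q : ℤ), Mono (((tB R).obj G).map (S.f.f q)))
    (h₁ : IsKFl S.X₁) (h₂ : IsKFl S.X₂) : IsKFl S.X₃ :=
  isKFlat_iff.2 fun F hF => acyclic₃ upRel_next (shortExact_tot_obj F hS fun _ q => hm _ q)
    (isKFlat_iff.1 h₁ F hF) (isKFlat_iff.1 h₂ F hF)

theorem mono_of_flat (hS : S.ShortExact) (h₃ : ∀ n, IsFl (S.X₃.X n))
    (G : Mo R) (q : ℤ) : Mono (((tB R).obj G).map (S.f.f q)) :=
  (shortExact_map_of_isFlat
    (hS.map_of_exact (HomologicalComplex.eval _ _ q)) (h₃ q) G).mono_f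

theorem mono_of_splitting (s : ∀ q, (S.map (HomologicalComplex.eval _ _ q)).Splitting)
    (G : Mo R) (q : ℤ) : Mono (((tB R).obj G).map (S.f.f q)) :=
  ((s q).map ((tB R).obj G)).isSplitMono_f.mono

end TwoOfThree

/-- the degreewise split sequence `L → cone φ → K[1]` -/
noncomputable abbrev coneSeq {K L : Cx R} (φ : K ⟶ L) : ShortComplex (Cx R) :=
  CochainComplex.mappingCone.triangleRotateShortComplex φ

/-- the splitting of `coneSeq` -/
noncomputable abbrev coneSeqSplitting {K L : Cx R} (φ : K ⟶ L) (q : ℤ) :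
    ((coneSeq φ).map (HomologicalComplex.eval _ _ q)).Splitting :=
  CochainComplex.mappingCone.triangleRotateShortComplexSplitting φ q

theorem coneSeq_shortExact {K L : Cx R} (φ : K ⟶ L) : (coneSeq φ).ShortExact :=
  HomologicalComplex.shortExact_of_degreewise_shortExact _ fun q => (coneSeqSplitting φ q).shortExact

theorem isKFlat_shift {K : Cx R} (h : IsKFl K) (n : ℤ) :
    IsKFl (K⟦n⟧) := by
  refine isKFlat_iff.2 fun F hF => acyclic_of_iso
    (CochainComplex.mapBifunctorShift₂Iso F K (tB R) n).symm ?_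
  intro i
  exact (HomologicalComplex.exactAt_iff_isZero_homology _ _).2
    ((h F (acyclic_iff_isZero.1 hF) _).of_iso
      (((HomologicalComplex.homologyFunctor (Mo R) (.up ℤ) 0).shiftIso n i (n + i) rfl).app _))

theorem isKFlat_of_shift {K : Cx R} (n : ℤ) (h : IsKFl (K⟦n⟧)) : IsKFl K :=
  isKFlat_of_iso ((shiftEquiv (Cx R) n).unitIso.app K).symm (isKFlat_shift h (-n))

theorem isKFlat_cone {K L : Cx R} (φ : K ⟶ L) (hK : IsKFl K) (hL : IsKFl L) :
    IsKFl (CochainComplex.mappingCone φ) :=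
  isKFlat₂ (S := coneSeq φ) (coneSeq_shortExact φ)
    (mono_of_splitting (S := coneSeq φ) (coneSeqSplitting φ)) hL (isKFlat_shift hK 1)

theorem isKFlat_tgt_of_cone {K L : Cx R} (φ : K ⟶ L) (hK : IsKFl K)
    (hC : IsKFl (CochainComplex.mappingCone φ)) : IsKFl L :=
  isKFlat₁ (S := coneSeq φ) (coneSeq_shortExact φ)
    (mono_of_splitting (S := coneSeq φ) (coneSeqSplitting φ)) hC (isKFlat_shift hK 1)

theorem isKFlat_src_of_cone {K L : Cx R} (φ : K ⟶ L) (hL : IsKFl L)
    (hC : IsKFl (CochainComplex.mappingCone φ)) : IsKFl K :=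
  isKFlat_of_shift 1
    (isKFlat₃ (S := coneSeq φ) (coneSeq_shortExact φ)
    (mono_of_splitting (S := coneSeq φ) (coneSeqSplitting φ)) hL hC)

/-- An exact colimit of K-flat complexes is K-flat. -/
theorem isKFlat_colimit {I : Type*} [Category* I] [HasColimitsOfShape I (Mo R)]
    [HasExactColimitsOfShape I (Mo R)]
    [∀ G : Mo R, PreservesColimitsOfShape I ((tB R).obj G)]
    (D : I ⥤ Cx R) (hD : ∀ i, IsKFl (D.obj i)) {c : Cocone D} (hc : IsColimit c) :
    IsKFl c.pt := by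
  refine isKFlat_iff.2 fun F hF => ?_
  haveI := tensorCx_obj_preservesColimitsOfShape F I
  exact acyclic_of_isColimit (D ⋙ (tCx R).obj F) (fun i => isKFlat_iff.1 (hD i) F hF)
    (isColimitOfPreserves _ hc)

lemma isIso_ι_of_isZero {F K : Cx R} (q₀ : ℤ) (h0 : ∀ q, q ≠ q₀ → IsZero (K.X q)) (p m : ℤ)
    (h : p + q₀ = m) :
    IsIso (ιMapBifunctor F K (tB R) (ComplexShape.up ℤ) p q₀ m h) := by
  refine ⟨mapBifunctorDesc fun p' q' h' =>
    if hq : q' = q₀ then eqToHom (by
      obtain rfl := hq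
      obtain rfl : p' = p := by
        have : p' + q' = m := h'
        omega
      rfl) else 0, ?_, ?_⟩
  · rw [ι_mapBifunctorDesc, dif_pos rfl]
    simp
  · apply mapBifunctor.hom_ext
    intro p' q' h'
    rw [ι_mapBifunctorDesc_assoc]
    by_cases hq : q' = q₀
    · obtain rfl := hq
      obtain rfl : p' = p := by
        have : p' + q' = m := h'
        omega
      simp
    · exact (((tB R).obj (F.X p')).map_isZero (h0 q' hq)).eq_of_src _ _

lemma ι_d_of_isZero {F K : Cx R} (q₀ : ℤ) (h0 : ∀ q, q ≠ q₀ → IsZero (K.X q)) (p p' i j : ℤ)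
    (hp : p + 1 = p') (hi : p + q₀ = i) (hj : p' + q₀ = j) :
    ιMapBifunctor F K (tB R) (ComplexShape.up ℤ) p q₀ i hi ≫
        (mapBifunctor F K (tB R) (ComplexShape.up ℤ)).d i j =
      ((tB R).map (F.d p p')).app (K.X q₀) ≫
        ιMapBifunctor F K (tB R) (ComplexShape.up ℤ) p' q₀ j hj := by
  rw [mapBifunctor.d_eq, Preadditive.comp_add, mapBifunctor.ι_D₁, mapBifunctor.ι_D₂,
    mapBifunctor.d₁_eq F K (tB R) (.up ℤ)
      (show (ComplexShape.up ℤ).Rel p p' from hp) q₀ j hj,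
    mapBifunctor.d₂_eq F K (tB R) (.up ℤ) p
      (show (ComplexShape.up ℤ).Rel q₀ (q₀ + 1) from rfl) j
      (show p + (q₀ + 1) = j by omega),
    (h0 (q₀ + 1) (by omega)).eq_of_tgt (K.d q₀ (q₀ + 1)) 0, Functor.map_zero, zero_comp, smul_zero,
    add_zero, show ComplexShape.ε₁ (ComplexShape.up ℤ) (ComplexShape.up ℤ) (ComplexShape.up ℤ)
      (p, q₀) = 1 from rfl, one_smul]

/-- A complex concentrated in degree `q₀` with flat term is K-flat. -/
theorem isKFlat_of_isZero {K : Cx R} (q₀ : ℤ) (h0 : ∀ q, q ≠ q₀ → IsZero (K.X q))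
    (hflat : IsFl (K.X q₀)) : IsKFl K := by
  refine isKFlat_iff.2 fun F hF n => ?_
  haveI := hflat.1
  rw [HomologicalComplex.exactAt_iff' _ (n - 1) n (n + 1) (by simp) (by simp)]
  refine ShortComplex.exact_of_iso ?_
    (((F.exactAt_iff' (n - 1 - q₀) (n - q₀) (n + 1 - q₀) (by simp; omega) (by simp; omega)).1
      (hF (n - q₀))).map ((tB R).flip.obj (K.X q₀)))
  exact ShortComplex.isoMk
    (@asIso _ _ _ _ _ (isIso_ι_of_isZero q₀ h0 (n - 1 - q₀) (n - 1) (by omega)))
    (@asIso _ _ _ _ _ (isIso_ι_of_isZero q₀ h0 (n - q₀) n (by omega)))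
    (@asIso _ _ _ _ _ (isIso_ι_of_isZero q₀ h0 (n + 1 - q₀) (n + 1) (by omega)))
    (ι_d_of_isZero q₀ h0 (n - 1 - q₀) (n - q₀) (n - 1) n (by omega) (by omega) (by omega))
    (ι_d_of_isZero q₀ h0 (n - q₀) (n + 1 - q₀) n (n + 1) (by omega) (by omega) (by omega))

end Groth.Agent.DRingKFlat
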