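import Groth.Prelude.Def_KFlatSite
import Mathlib.Algebra.Category.ModuleCat.Monoidal.Closed
import Mathlib.Algebra.Category.ModuleCat.AB
import Mathlib.CategoryTheory.Abelian.GrothendieckAxioms.Basic
import Mathlib.CategoryTheory.Limits.FunctorCategory.Basic
import Mathlib.CategoryTheory.Abelian.Refinements
import Mathlib.Algebra.Category.ModuleCat.EpiMono
import Mathlib.RingTheory.Flat.Basic
import Mathlib.CategoryTheory.Abelian.Exact
import Mathlib.CategoryTheory.Preadditive.LeftExact

/-!
# Flat modules, categorically, for K-flat complexes over a ring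
-/

universe u

open CategoryTheory MonoidalCategory Limits

namespace Groth.Agent.DRingKFlat

variable {R : Type u} [CommRing R]

lemma preservesFiniteLimits_of_preservesMono {A B : Type*} [Category* A] [Category* B] [Abelian A]
    [Abelian B] (F : A ⥤ B) [hF : PreservesFiniteColimits F] [F.PreservesMonomorphisms] :
    PreservesFiniteLimits F := by
  have := preservesBinaryBiproducts_of_preservesBinaryCoproducts F
  have : F.Additive := Functor.additive_of_preservesBinaryBiproducts F
  have h : ∀ S : ShortComplex A, S.ShortExact → (S.map F).Exact ∧ Epi (F.map S.g) :=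
    ((Functor.preservesFiniteColimits_tfae F).out 3 0).mp hF
  refine ((Functor.preservesFiniteLimits_tfae F).out 0 3).mp
    (show ∀ S : ShortComplex A, S.ShortExact → (S.map F).Exact ∧ Mono (F.map S.f) from
      fun S hS => ⟨(h S hS).1, ?_⟩)
  haveI := hS.mono_f
  exact F.map_mono _

/-- `R`-modules. -/
abbrev Mo (R : Type u) [CommRing R] := ModuleCat.{u} R

/-- The tensor product of modules as a bifunctor. -/
abbrev tB (R : Type u) [CommRing R] : Mo R ⥤ Mo R ⥤ Mo R := curriedTensor (Mo R)

instance tB_flip_preservesColimitsOfSize (F : Mo R) : PreservesColimitsOfSize.{u, u} ((tB R).flip.obj F) :=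
  haveI : PreservesColimitsOfSize.{u, u} (tensorLeft F) :=
    (ihom.adjunction F).leftAdjoint_preservesColimits
  preservesColimits_of_natIso (BraidedCategory.tensorLeftIsoTensorRight F)

instance tB_flip_preservesFiniteColimits (F : Mo R) : PreservesFiniteColimits ((tB R).flip.obj F) :=
  PreservesColimitsOfSize.preservesFiniteColimits _

instance tB_flip_additive (F : Mo R) : ((tB R).flip.obj F).Additive :=
  haveI := preservesBinaryBiproducts_of_preservesBinaryCoproducts ((tB R).flip.obj F)
  Functor.additive_of_preservesBinaryBiproducts _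

/-- `G ⊗ - ≅ - ⊗ G`. -/
noncomputable def braidIso (G : Mo R) : (tB R).obj G ≅ (tB R).flip.obj G :=
  BraidedCategory.tensorLeftIsoTensorRight G

instance tB_obj_preservesColimitsOfSize (G : Mo R) : PreservesColimitsOfSize.{u, u} ((tB R).obj G) :=
  preservesColimits_of_natIso (braidIso G).symm

instance tB_obj_preservesFiniteColimits (G : Mo R) : PreservesFiniteColimits ((tB R).obj G) :=
  PreservesColimitsOfSize.preservesFiniteColimits _

instance tB_obj_additive (G : Mo R) : ((tB R).obj G).Additive :=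
  Functor.additive_of_iso (braidIso G).symm

/-- Flatness: `- ⊗ F` is exact. -/
def IsFl (F : Mo R) : Prop :=
  PreservesFiniteLimits ((tB R).flip.obj F) ∧ PreservesFiniteColimits ((tB R).flip.obj F)

theorem isFlat_iff {F : Mo R} : IsFl F ↔ ((tB R).flip.obj F).PreservesMonomorphisms := by
  refine ⟨fun h => ?_, fun h => ⟨preservesFiniteLimits_of_preservesMono _, inferInstance⟩⟩
  haveI := h.1
  exact preservesMonomorphisms_of_preservesLimitsOfShape _

theorem preservesMono_of_isFlat {F : Mo R} (h : IsFl F) : ((tB R).flip.obj F).PreservesMonomorphisms :=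
  isFlat_iff.1 h

theorem isFlat_iff_flat {F : Mo R} : IsFl F ↔ Module.Flat R F := by
  rw [isFlat_iff, Module.Flat.iff_rTensor_preserves_injective_linearMap]
  refine ⟨fun h N N' _ _ _ _ L hL => ?_, fun h => ⟨fun {A B} f _ => ?_⟩⟩
  · haveI : Mono (ModuleCat.ofHom L) := (ModuleCat.mono_iff_injective _).2 hL
    exact (ModuleCat.mono_iff_injective _).1 (h.preserves (ModuleCat.ofHom L))
  · exact (ModuleCat.mono_iff_injective _).2 (h f.hom ((ModuleCat.mono_iff_injective f).1 ‹_›))

theorem isFlat_of_natIso {F : Mo R} {T : Mo R ⥤ Mo R}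
    (e : (tB R).flip.obj F ≅ T) [T.PreservesMonomorphisms] : IsFl F :=
  isFlat_iff.2 (Functor.PreservesMonomorphisms.of_iso e.symm)

theorem isFlat_of_iso {F F' : Mo R} (e : F ≅ F') (h : IsFl F) : IsFl F' :=
  haveI := preservesMono_of_isFlat h
  isFlat_of_natIso ((tB R).flip.mapIso e.symm)

theorem exists_flat_quotient (F : Mo R) : ∃ (P : Mo R) (π : P ⟶ F), IsFl P ∧ Epi π :=
  ⟨ModuleCat.of R (F →₀ R), ModuleCat.ofHom (Finsupp.linearCombination R (id : F → F)),
    isFlat_iff_flat.2 inferInstance,
    (ModuleCat.epi_iff_surjective _).2 fun x => ⟨Finsupp.single x 1, by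
      show Finsupp.linearCombination R id _ = x
      simp⟩⟩

theorem mono_tensor_map_of_isFlat {X : Mo R} (h : IsFl X) {K P : Mo R} (φ : K ⟶ P) [Mono φ] :
    Mono (((tB R).map φ).app X) :=
  (preservesMono_of_isFlat h).preserves φ

theorem mono_map_of_isFlat {P : Mo R} (h : IsFl P) {A B : Mo R} (f : A ⟶ B) [Mono f] :
    Mono (((tB R).obj P).map f) :=
  haveI := preservesMono_of_isFlat h
  haveI : ((tB R).obj P).PreservesMonomorphisms :=
    Functor.PreservesMonomorphisms.of_iso (braidIso P).symm
  Functor.map_mono _ f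

lemma exact_epi_map {A B : Type*} [Category* A] [Category* B] [Abelian A] [Abelian B] (F : A ⥤ B)
    [F.Additive] [PreservesFiniteColimits F] {S : ShortComplex A} (hS : S.ShortExact) :
    (S.map F).Exact ∧ Epi (F.map S.g) := by
  have h : ∀ S : ShortComplex A, S.ShortExact → (S.map F).Exact ∧ Epi (F.map S.g) :=
    ((Functor.preservesFiniteColimits_tfae F).out 3 0).mp ‹PreservesFiniteColimits F›
  exact h S hS

variable {S : ShortComplex (Mo R)}

/-- `G ⊗ -` preserves short exact sequences with flat quotient. -/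
theorem shortExact_map_of_isFlat (hS : S.ShortExact) (h₃ : IsFl S.X₃)
    (G : Mo R) : (S.map ((tB R).obj G)).ShortExact := by
  have hex : ∀ H : Mo R,
      (S.map ((tB R).obj H)).Exact ∧ Epi (((tB R).obj H).map S.g) :=
    fun H => exact_epi_map _ hS
  obtain ⟨P, π, hP, hπ⟩ := exists_flat_quotient G
  let T : ShortComplex (Mo R) := ShortComplex.mk (kernel.ι π) π (kernel.condition π)
  have hT : T.ShortExact :=
    { exact := T.exact_of_f_is_kernel (kernelIsKernel π)
      mono_f := inferInstanceAs (Mono (kernel.ι π))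
      epi_g := hπ }
  have hcol : ∀ X : Mo R, (T.map ((tB R).flip.obj X)).Exact ∧
      Epi (((tB R).flip.obj X).map π) :=
    fun X => exact_epi_map _ hT
  let Q := ((tB R).obj G).map S.f
  haveI := mono_tensor_map_of_isFlat h₃ (kernel.ι π)
  haveI := hS.mono_f
  haveI := mono_map_of_isFlat hP S.f
  haveI := (hcol S.X₁).2
  haveI : Mono Q := by
    refine Preadditive.mono_of_cancel_zero _ fun {A} x hx => ?_
    obtain ⟨A₁, p₁, _, y, hy⟩ :
        ∃ (A₁ : _) (p₁ : A₁ ⟶ A) (_ : Epi p₁) (y : A₁ ⟶ ((tB R).obj P).obj S.X₁),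
          p₁ ≫ x = y ≫ ((tB R).map π).app S.X₁ :=
      surjective_up_to_refinements_of_epi (((tB R).flip.obj S.X₁).map π) x
    have hy' : (y ≫ ((tB R).obj P).map S.f) ≫ ((tB R).map π).app S.X₂ = 0 := by
      rw [Category.assoc, NatTrans.naturality, ← Category.assoc, ← hy, Category.assoc, hx, comp_zero]
    obtain ⟨A₂, p₂, _, z, hz⟩ :
        ∃ (A₂ : _) (p₂ : A₂ ⟶ A₁) (_ : Epi p₂) (z : A₂ ⟶ ((tB R).obj (kernel π)).obj S.X₂),
          p₂ ≫ y ≫ ((tB R).obj P).map S.f =
            z ≫ ((tB R).map (kernel.ι π)).app S.X₂ :=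
      (hcol S.X₂).1.exact_up_to_refinements _ hy'
    have hz' : z ≫ ((tB R).obj (kernel π)).map S.g = 0 := by
      rw [← cancel_mono (((tB R).map (kernel.ι π)).app S.X₃), zero_comp, Category.assoc,
        NatTrans.naturality, ← Category.assoc, ← hz, Category.assoc, Category.assoc, ← Functor.map_comp, S.zero,
        Functor.map_zero, comp_zero, comp_zero]
    obtain ⟨A₃, p₃, _, w, hw⟩ :
        ∃ (A₃ : _) (p₃ : A₃ ⟶ A₂) (_ : Epi p₃) (w : A₃ ⟶ ((tB R).obj (kernel π)).obj S.X₁),
          p₃ ≫ z = w ≫ ((tB R).obj (kernel π)).map S.f :=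
      (hex (kernel π)).1.exact_up_to_refinements _ hz'
    have key : p₃ ≫ p₂ ≫ y = w ≫ ((tB R).map (kernel.ι π)).app S.X₁ := by
      rw [← cancel_mono (((tB R).obj P).map S.f), Category.assoc, Category.assoc,
        Category.assoc, hz, reassoc_of% hw, NatTrans.naturality]
    have : (p₃ ≫ p₂ ≫ p₁) ≫ x = 0 := by
      rw [Category.assoc, Category.assoc, hy, reassoc_of% key, ← NatTrans.comp_app, ← Functor.map_comp,
        kernel.condition]
      have h0 : ((tB R).map (0 : kernel π ⟶ G)).app S.X₁ = 0 :=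
        ((tB R).flip.obj S.X₁).map_zero _ _
      rw [h0, comp_zero]
    exact zero_of_epi_comp _ this
  exact { exact := (hex G).1, mono_f := this, epi_g := (hex G).2 }

theorem isFlat_middle (hS : S.ShortExact) (h₁ : IsFl S.X₁) (h₃ : IsFl S.X₃) :
    IsFl S.X₂ := by
  refine isFlat_iff.2 ⟨fun {A B} φ _ => ?_⟩
  haveI := mono_tensor_map_of_isFlat h₁ φ
  haveI := mono_tensor_map_of_isFlat h₃ φ
  haveI := (shortExact_map_of_isFlat hS h₃ B).mono_f
  haveI := (shortExact_map_of_isFlat hS h₃ A).mono_f
  haveI : Mono (S.mapNatTrans ((tB R).map φ)).τ₁ :=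
    mono_tensor_map_of_isFlat h₁ φ
  haveI : Mono (S.mapNatTrans ((tB R).map φ)).τ₃ :=
    mono_tensor_map_of_isFlat h₃ φ
  exact ShortComplex.mono_τ₂_of_exact_of_mono (S.mapNatTrans ((tB R).map φ))
    (shortExact_map_of_isFlat hS h₃ A).exact

end Groth.Agent.DRingKFlat
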