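import Groth.Agent.DRingKFlat.Api

/-!
# Universally exact complexes kill every complex
-/

universe u

open CategoryTheory Limits MonoidalCategory HomologicalComplex
open scoped TensorProduct

namespace Groth.Agent.DRingKFlat

variable {R : Type u} [CommRing R]

/-- Exactness after tensoring with every finitely presented module gives it for every module. -/
theorem exact_rTensor_of_fp {A B C : Type u} [AddCommGroup A] [Module R A] [AddCommGroup B] [Module R B]
    [AddCommGroup C] [Module R C] (f : A →ₗ[R] B) (g : B →ₗ[R] C) (hfg : g.comp f = 0)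
    (h : ∀ (N : Type u) [AddCommGroup N] [Module R N], Module.FinitePresentation R N →
      Function.Exact (f.rTensor N) (g.rTensor N))
    (M : Type u) [AddCommGroup M] [Module R M] : Function.Exact (f.rTensor M) (g.rTensor M) := by
  classical
  intro z
  refine ⟨fun hz => ?_, fun ⟨w, hw⟩ => by
    rw [← hw, ← LinearMap.comp_apply, ← LinearMap.rTensor_comp, hfg, LinearMap.rTensor_zero,
      LinearMap.zero_apply]⟩
  let π : (M →₀ R) →ₗ[R] M := Finsupp.linearCombination R id
  have hπ : Function.Surjective π := fun m => ⟨Finsupp.single m 1, by simp [π]⟩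
  obtain ⟨z₀, rfl⟩ := LinearMap.lTensor_surjective B hπ z
  have h0 : π.lTensor C (g.rTensor _ z₀) = 0 := by
    rw [← LinearMap.comp_apply, LinearMap.lTensor_comp_rTensor, ← LinearMap.rTensor_comp_lTensor,
      LinearMap.comp_apply, hz]
  have hexact : Function.Exact (LinearMap.ker π).subtype π := fun x =>
    ⟨fun h => ⟨⟨x, h⟩, rfl⟩, by rintro ⟨y, rfl⟩; exact y.2⟩
  obtain ⟨w, hw⟩ := (lTensor_exact (M := LinearMap.ker π) (f := (LinearMap.ker π).subtype) C hexact hπ (g.rTensor _ z₀)).1 h0
  obtain ⟨W, hW⟩ := TensorProduct.exists_finset w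
  obtain ⟨Z, hZ⟩ := TensorProduct.exists_finset z₀
  let T : Finset M := (Z.biUnion fun q => q.2.support) ∪ (W.biUnion fun q => q.2.1.support)
  let e : ({m // m ∈ T} →₀ R) →ₗ[R] (M →₀ R) := Finsupp.lmapDomain R R Subtype.val
  let r : (M →₀ R) →ₗ[R] ({m // m ∈ T} →₀ R) := Finsupp.lsubtypeDomain (↑T : Set M)
  have her : ∀ x : M →₀ R, x.support ⊆ T → e (r x) = x := fun x hx => by
    ext m
    show Finsupp.mapDomain Subtype.val (x.subtypeDomain fun m => m ∈ T) m = x m
    by_cases hm : m ∈ T
    · rw [show m = Subtype.val (⟨m, hm⟩ : {m // m ∈ T}) from rfl,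
        Finsupp.mapDomain_apply Subtype.val_injective, Finsupp.subtypeDomain_apply]
    · rw [Finsupp.mapDomain_notin_range _ _ (by simpa using hm)]
      exact (Finsupp.notMem_support_iff.1 fun h => hm (hx h)).symm
  let J : Submodule R ({m // m ∈ T} →₀ R) := Submodule.span R ↑(W.image fun q => r q.2.1)
  let π₁ : ({m // m ∈ T} →₀ R) →ₗ[R] M := π ∘ₗ e
  have hJ : J ≤ LinearMap.ker π₁ := by
    refine Submodule.span_le.2 fun x hx => ?_
    obtain ⟨q, hq, rfl⟩ := Finset.mem_image.1 hx
    show π (e (r q.2.1)) = 0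
    rw [her _ ((Finset.subset_biUnion_of_mem (fun q => q.2.1.support) hq).trans Finset.subset_union_right)]
    exact q.2.2
  let N := ({m // m ∈ T} →₀ R) ⧸ J
  haveI : Module.FinitePresentation R ({m // m ∈ T} →₀ R) := Module.finitePresentation_of_projective R _
  haveI : Module.FinitePresentation R N := Module.finitePresentation_of_surjective J.mkQ J.mkQ_surjective
    (by rw [Submodule.ker_mkQ]; exact ⟨_, rfl⟩)
  have hgz : g.rTensor N (J.mkQ.lTensor B (r.lTensor B z₀)) = 0 := by
    rw [← LinearMap.comp_apply, LinearMap.rTensor_comp_lTensor, ← LinearMap.lTensor_comp_rTensor,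
      LinearMap.comp_apply, ← LinearMap.comp_apply (g.rTensor _), LinearMap.rTensor_comp_lTensor,
      ← LinearMap.lTensor_comp_rTensor, LinearMap.comp_apply, ← hw, hW, map_sum, map_sum, map_sum]
    refine Finset.sum_eq_zero fun q hq => ?_
    simp only [LinearMap.lTensor_tmul, Submodule.subtype_apply]
    rw [show J.mkQ (r q.2.1) = 0 from (Submodule.Quotient.mk_eq_zero J).2
      (Submodule.subset_span (Finset.mem_image.2 ⟨q, hq, rfl⟩)), TensorProduct.tmul_zero]
  obtain ⟨y, hy⟩ := (h N inferInstance _).1 hgz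
  let qN : N →ₗ[R] M := J.liftQ π₁ hJ
  refine ⟨qN.lTensor A y, ?_⟩
  rw [← LinearMap.comp_apply, LinearMap.rTensor_comp_lTensor, ← LinearMap.lTensor_comp_rTensor,
    LinearMap.comp_apply, hy, hZ, map_sum, map_sum, map_sum, map_sum]
  refine Finset.sum_congr rfl fun q hq => ?_
  simp only [LinearMap.lTensor_tmul]
  show q.1 ⊗ₜ[R] π (e (r q.2)) = _
  rw [her _ ((Finset.subset_biUnion_of_mem (fun q => q.2.support) hq).trans Finset.subset_union_left)]

end Groth.Agent.DRingKFlat
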