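import Groth.Agent.DRingKFlat.Univ
import Groth.Agent.DRingTorAmp.Criterion
import Groth.Agent.DRingKProj.Trunc

/-!
# Universally exact complexes are K-flat
-/

universe u

open CategoryTheory Limits MonoidalCategory HomologicalComplex CochainComplex

namespace Groth.Agent.DRingKFlat

attribute [local instance] HasDerivedCategory.standard

variable {R : Type u} [CommRing R]

/-- The subobjects of `σ`-truncation above: everything below `n`, cocycles in degree `n`, zero above. -/
noncomputable def upSub (F : Cx R) (n i : ℤ) : Submodule R (F.X i) :=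
  if i < n then ⊤ else if i = n then LinearMap.ker (F.d i (i + 1)).hom else ⊥

lemma d_mem_upSub (F : Cx R) (n i j : ℤ) (x : F.X i) (hx : x ∈ upSub F n i) : F.d i j x ∈ upSub F n j := by
  by_cases hij : i + 1 = j
  · subst hij
    rcases lt_trichotomy (i + 1) n with h | h | h
    · rw [upSub, if_pos h]; exact Submodule.mem_top
    · rw [upSub, if_neg (by omega), if_pos h, LinearMap.mem_ker]
      show (F.d (i + 1) (i + 1 + 1)) (F.d i (i + 1) x) = 0
      rw [← ModuleCat.comp_apply, F.d_comp_d]
      rfl
    · rw [upSub, if_neg (by omega), if_neg (by omega), Submodule.mem_bot]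
      rw [upSub, if_neg (by omega)] at hx
      split_ifs at hx
      · exact hx
      · rw [(Submodule.mem_bot R).1 hx, map_zero]
  · rw [F.shape i j hij]
    exact Submodule.zero_mem _

lemma upSub_mono (F : Cx R) {n m : ℤ} (h : n ≤ m) (i : ℤ) : upSub F n i ≤ upSub F m i := by
  unfold upSub
  split_ifs <;> first | exact le_top | exact bot_le | exact le_rfl | omega

/-- The canonical truncation above. -/
noncomputable def upTr (F : Cx R) (n : ℤ) : Cx R where
  X i := ModuleCat.of R (upSub F n i)
  d i j := ModuleCat.ofHom ((F.d i j).hom.restrict (d_mem_upSub F n i j))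
  shape i j h := ModuleCat.hom_ext (LinearMap.ext fun x => Subtype.ext
    (congrArg (fun t => t.hom x.1) (F.shape i j h)))
  d_comp_d' i j k _ _ := ModuleCat.hom_ext (LinearMap.ext fun x => Subtype.ext
    (congrArg (fun t => t.hom x.1) (F.d_comp_d i j k)))

lemma isZero_upTr (F : Cx R) {n q : ℤ} (h : n < q) : IsZero ((upTr F n).X q) := by
  haveI : Subsingleton (upSub F n q) := by
    rw [upSub, if_neg (by omega), if_neg (by omega)]
    infer_instance
  exact ModuleCat.isZero_of_subsingleton (ModuleCat.of R (upSub F n q))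

variable {K : Cx R} (hK : ∀ M : ModuleCat.{u} R, (DRing.tensorCx K M).Acyclic)

include hK in
/-- a universally exact complex kills complexes concentrated in one degree -/
theorem acyclic_tot_of_isZero {X : Cx R} (q₀ : ℤ) (h0 : ∀ q, q ≠ q₀ → IsZero (X.X q)) :
    (tot K X).Acyclic := by
  intro n
  rw [HomologicalComplex.exactAt_iff' _ (n - 1) n (n + 1) (by simp) (by simp)]
  refine ShortComplex.exact_of_iso ?_
    (((DRing.tensorCx K (X.X q₀)).exactAt_iff' (n - 1 - q₀) (n - q₀) (n + 1 - q₀) (by simp; omega)
      (by simp; omega)).1 (hK (X.X q₀) (n - q₀)))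
  exact ShortComplex.isoMk
    (@asIso _ _ _ _ _ (isIso_ι_of_isZero q₀ h0 (n - 1 - q₀) (n - 1) (by omega)))
    (@asIso _ _ _ _ _ (isIso_ι_of_isZero q₀ h0 (n - q₀) n (by omega)))
    (@asIso _ _ _ _ _ (isIso_ι_of_isZero q₀ h0 (n + 1 - q₀) (n + 1) (by omega)))
    (ι_d_of_isZero q₀ h0 (n - 1 - q₀) (n - q₀) (n - 1) n (by omega) (by omega) (by omega))
    (ι_d_of_isZero q₀ h0 (n - q₀) (n + 1 - q₀) n (n + 1) (by omega) (by omega) (by omega))

include hK in
theorem acyclic_tot_tr {X : Cx R} (b : ℤ) (hb : ∀ q, b < q → IsZero (X.X q)) :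
    ∀ j : ℕ, (tot K (tr X (b - j))).Acyclic
  | 0 => acyclic_tot_of_isZero hK b fun q hq => isZero_tr (by
      rcases lt_or_gt_of_ne hq with h | h
      · exact .inl (by omega)
      · exact .inr (hb q h))
  | j + 1 => by
    have h : b - (j + 1 : ℕ) ≤ b - j := by omega
    let f := trMap X h
    haveI : Mono f := HomologicalComplex.mono_of_mono_f _ fun q => by
      by_cases hq : b - j ≤ q
      · haveI := isIso_trMap (K := X) h hq; infer_instance
      · exact ⟨fun u v _ => (isZero_tr (.inl hq)).eq_of_tgt u v⟩
    let S := ShortComplex.mk f (cokernel.π f) (cokernel.condition f)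
    have hS : S.ShortExact := { exact := ShortComplex.exact_cokernel f }
    have hm : ∀ (G : Mo R) (q : ℤ), Mono (((tB R).obj G).map (S.f.f q)) := by
      intro G q
      by_cases hq : b - j ≤ q
      · haveI : IsIso (S.f.f q) := isIso_trMap (K := X) h hq; haveI : IsIso (((tB R).obj G).map (S.f.f q)) := Functor.map_isIso _ _; exact IsIso.mono_of_iso _
      · exact ⟨fun u v _ => (((tB R).obj G).map_isZero (isZero_tr (.inl hq))).eq_of_tgt u v⟩
    refine acyclic₂ (shortExact_tot_obj K hS fun _ q => hm _ q) (acyclic_tot_tr b hb j)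
      (acyclic_tot_of_isZero hK (b - (j + 1 : ℕ)) fun q hq => ?_)
    haveI := (hS.map_of_exact (HomologicalComplex.eval _ _ q)).epi_g
    haveI : Epi (f.f q) := by
      by_cases hq' : b - j ≤ q
      · haveI := isIso_trMap (K := X) h hq'; infer_instance
      · exact ⟨fun u v _ => (isZero_tr (.inl (by omega))).eq_of_src u v⟩
    refine (IsZero.iff_id_eq_zero _).2 ((cancel_epi ((cokernel.π f).f q)).1 ((cancel_epi (f.f q)).1 ?_))
    rw [← Category.assoc, ← Category.assoc, ← HomologicalComplex.comp_f, cokernel.condition]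
    simp

include hK in
theorem acyclic_tot_of_bddAbove {X : Cx R} (b : ℤ) (hb : ∀ q, b < q → IsZero (X.X q)) : (tot K X).Acyclic := by
  let D : ℕ ⥤ Cx R :=
    { obj := fun j => tr X (b - j)
      map := fun {i j} h => trMap X (by have := leOfHom h; omega)
      map_id := fun i => trMap_refl X _
      map_comp := fun {i j k} h h' => trMap_comp X _ _ }
  let c : Cocone D :=
    { pt := X
      ι :=
        { app := fun j => trι X (b - j)
          naturality := fun i j h =>
            (trMap_trι X (by have := leOfHom h; omega)).trans (Category.comp_id _).symm } }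
  let hc : IsColimit c := HomologicalComplex.isColimitOfEval D c fun q =>
    { desc := fun s => Sigma.ι (fun _ : PLift (b - ((b - q).toNat : ℕ) ≤ q) => X.X q) ⟨by omega⟩ ≫
        s.ι.app (b - q).toNat
      fac := fun s j => Sigma.hom_ext _ _ fun x => by
        refine ((Category.assoc _ _ _).symm.trans ((congrArg (· ≫ (Sigma.ι
          (fun _ : PLift (b - ((b - q).toNat : ℕ) ≤ q) => X.X q) ⟨by omega⟩ ≫ s.ι.app (b - q).toNat))
          (ι_trιF X _ q x)).trans (Category.id_comp _))).trans ?_
        rw [← s.w (homOfLE (le_max_left (b - q).toNat j)), ← s.w (homOfLE (le_max_right (b - q).toNat j))]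
        refine ((Category.assoc _ _ _).symm.trans (congrArg (· ≫ s.ι.app _)
          (ι_trMapF X (show b - (max (b - q).toNat j : ℕ) ≤ b - ((b - q).toNat : ℕ) by omega) q _))).trans ?_
        exact ((Category.assoc _ _ _).symm.trans (congrArg (· ≫ s.ι.app _)
          (ι_trMapF X (show b - (max (b - q).toNat j : ℕ) ≤ b - (j : ℤ) by omega) q x))).symm
      uniq := fun s m hm => by
        refine Eq.symm ((congrArg (_ ≫ ·) (hm _).symm).trans ?_)
        exact (Category.assoc _ _ _).symm.trans ((congrArg (· ≫ m) (ι_trιF X _ q _)).trans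
          (Category.id_comp m)) }
  haveI := tensorCx_obj_preservesColimitsOfShape K ℕ
  exact acyclic_of_isColimit (D ⋙ (tCx R).obj K) (fun j => acyclic_tot_tr hK b hb j)
    (isColimitOfPreserves _ hc)

include hK in
/-- a universally exact complex is K-flat -/
theorem isKFlat_of_univExact : IsKFl K := by
  refine isKFlat_iff.2 fun F _ => acyclic_of_iso (totBraidIso F K).symm ?_
  let D : ℕ ⥤ Cx R :=
    { obj := fun j => upTr F j
      map := fun {i j} h =>
        { f := fun q => ModuleCat.ofHom (Submodule.inclusion (upSub_mono F (by have := leOfHom h; omega) q))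
          comm' := fun _ _ _ => rfl }
      map_id := fun i => rfl
      map_comp := fun {i j k} h h' => rfl }
  let c : Cocone D :=
    { pt := F
      ι :=
        { app := fun j => { f := fun q => ModuleCat.ofHom (upSub F j q).subtype, comm' := fun _ _ _ => rfl }
          naturality := fun i j h => rfl } }
  have htop : ∀ (j : ℕ) (q : ℤ), q < j → ∀ x : F.X q, x ∈ upSub F j q := fun j q h x => by
    rw [upSub, if_pos h]
    exact Submodule.mem_top
  let hc : IsColimit c := HomologicalComplex.isColimitOfEval D c fun q =>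
    { desc := fun s => ModuleCat.ofHom ((s.ι.app (q + 1).toNat).hom ∘ₗ
        (LinearMap.id.codRestrict (upSub F ((q + 1).toNat : ℕ) q) (htop _ q (by omega))))
      fac := fun s j => ModuleCat.hom_ext (LinearMap.ext fun x => by
        have h1 := congrArg (fun t => t.hom x) (s.w (homOfLE (le_max_right (q + 1).toNat j)))
        have h2 := congrArg (fun t => t.hom (⟨x.1, htop _ q (by omega) x.1⟩ : upSub F ((q + 1).toNat : ℕ) q))
          (s.w (homOfLE (le_max_left (q + 1).toNat j)))
        exact h2.symm.trans h1)
      uniq := fun s m hm => ModuleCat.hom_ext (LinearMap.ext fun x => by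
        exact congrArg (fun t => t.hom (⟨x, htop _ q (by omega) x⟩ : upSub F ((q + 1).toNat : ℕ) q))
          (hm (q + 1).toNat)) }
  haveI := tensorCx_obj_preservesColimitsOfShape K ℕ
  exact acyclic_of_isColimit (D ⋙ (tCx R).obj K)
    (fun j => acyclic_tot_of_bddAbove hK (j : ℤ) fun q hq => isZero_upTr F hq) (isColimitOfPreserves _ hc)

theorem kflat_of_fp (K : DRing.Cx R)
    (hK : ∀ (M : Type u) [AddCommGroup M] [Module R M], Module.FinitePresentation R M →
      (∀ i : ℤ, IsZero ((DRing.tensorCx K (ModuleCat.of R M)).homology i))) : IsKFl K := by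
  refine isKFlat_of_univExact fun M i => ?_
  rw [DRingTorAmp.exact_tensor_iff K M (i - 1) i (i + 1) (by omega) rfl]
  refine exact_rTensor_of_fp _ _ ?_ (fun N _ _ hN => ?_) M
  · rw [← ModuleCat.hom_comp, K.d_comp_d]
    rfl
  · exact (DRingTorAmp.exact_tensor_iff K (ModuleCat.of R N) (i - 1) i (i + 1) (by omega) rfl).1
      ((HomologicalComplex.exactAt_iff_isZero_homology _ _).2 (hK N hN i))

end Groth.Agent.DRingKFlat
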